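import Mathlib

/-!
# S2140 (minimal index of `PSL_n(q)`): basic definitions

`tv v r` is the transvection `x ↦ x + r x • v` of `SL(V)` (junk value `1` unless `r v = 0`).
-/

set_option autoImplicit false

namespace Cfsg.Agent.Lib.Helper99.MinIdx

open Module

variable {F : Type*} [Field F] {V : Type*} [AddCommGroup V] [Module F V]

/-- The transvection `x ↦ x + r x • v` as an element of `SL(V)`; junk value `1` if `r v ≠ 0`. -/
noncomputable def tv (v : V) (r : Dual F V) : SpecialLinearGroup F V :=
  open Classical in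
  if h : r v = 0 then ⟨LinearEquiv.transvection h, LinearEquiv.transvection.det_eq_one h⟩ else 1

theorem tv_apply {v : V} {r : Dual F V} (h : r v = 0) (x : V) : tv v r x = x + r x • v := by
  unfold tv
  rw [dif_pos h]
  exact LinearEquiv.transvection.apply h x

theorem tv_zero_left (r : Dual F V) : tv (0 : V) r = 1 := by
  ext x
  rw [tv_apply (map_zero r)]
  simp

theorem tv_zero_right (v : V) : tv v (0 : Dual F V) = 1 := by
  ext x
  rw [tv_apply (LinearMap.zero_apply v)]
  simp

theorem tv_mul_same_left {v : V} {r r' : Dual F V} (h : r v = 0) (h' : r' v = 0) :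
    tv v r * tv v r' = tv v (r + r') := by
  ext x
  have h2 : (r + r') v = 0 := by simp [h, h']
  change tv v r (tv v r' x) = _
  rw [tv_apply h', tv_apply h, tv_apply h2]
  simp only [map_add, map_smul, h, smul_eq_mul, mul_zero, add_zero, LinearMap.add_apply]
  rw [add_smul]
  abel

theorem tv_mul_same_right {v v' : V} {r : Dual F V} (h : r v = 0) (h' : r v' = 0) :
    tv v r * tv v' r = tv (v + v') r := by
  ext x
  have h2 : r (v + v') = 0 := by simp [h, h']
  change tv v r (tv v' r x) = _
  rw [tv_apply h', tv_apply h, tv_apply h2]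
  simp only [map_add, map_smul, h', smul_eq_mul, mul_zero, add_zero, smul_add]
  abel

theorem tv_inv {v : V} {r : Dual F V} (h : r v = 0) : (tv v r)⁻¹ = tv v (-r) := by
  have h' : (-r) v = 0 := by simp [h]
  rw [inv_eq_iff_mul_eq_one, tv_mul_same_left h h']
  simp [tv_zero_right]

theorem tv_neg_left {v : V} {r : Dual F V} (h : r v = 0) : tv (-v) r = (tv v r)⁻¹ := by
  have h' : r (-v) = 0 := by simp [h]
  rw [eq_inv_iff_mul_eq_one, tv_mul_same_right h' h]
  simp [tv_zero_left]

theorem tv_smul_left (c : F) (v : V) (r : Dual F V) : tv (c • v) r = tv v (c • r) := by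
  by_cases h : r v = 0
  · have h1 : r (c • v) = 0 := by simp [h]
    have h2 : (c • r) v = 0 := by simp [h]
    ext x
    rw [tv_apply h1, tv_apply h2]
    simp [smul_smul, mul_comm]
  · by_cases hc : c = 0
    · subst hc
      simp [tv_zero_left, tv_zero_right]
    · have h1 : ¬ r (c • v) = 0 := by simp [h, hc]
      have h2 : ¬ (c • r) v = 0 := by simp [h, hc]
      unfold tv
      rw [dif_neg h1, dif_neg h2]

/-- Conjugation formula: `g (1 + v ⊗ r) g⁻¹ = 1 + g v ⊗ (r ∘ g⁻¹)`, stated pointwise through a
functional `r'` with `r' (g x) = r x`. -/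
theorem tv_conj (g : SpecialLinearGroup F V) {v : V} {r r' : Dual F V} (h : r v = 0)
    (hr' : ∀ x, r' (g x) = r x) : g * tv v r * g⁻¹ = tv (g v) r' := by
  have h' : r' (g v) = 0 := by rw [hr', h]
  rw [mul_inv_eq_iff_eq_mul]
  ext x
  change g (tv v r x) = tv (g v) r' (g x)
  rw [tv_apply h, tv_apply h', hr']
  change g.val (x + r x • v) = g.val x + r x • g.val v
  rw [map_add, map_smul]

theorem tv_eq_one_iff {v : V} {r : Dual F V} (h : r v = 0) : tv v r = 1 ↔ v = 0 ∨ r = 0 := by
  constructor
  · intro h1
    by_contra hcon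
    rw [not_or] at hcon
    obtain ⟨hv, hr⟩ := hcon
    obtain ⟨x, hx⟩ : ∃ x, r x ≠ 0 := by
      by_contra hall
      apply hr
      ext x
      by_contra hx
      exact hall ⟨x, hx⟩
    have := (SpecialLinearGroup.ext_iff _ _).1 h1 x
    rw [tv_apply h] at this
    change x + r x • v = x at this
    rw [add_eq_left, smul_eq_zero] at this
    rcases this with h2 | h2
    · exact hx h2
    · exact hv h2
  · rintro (rfl | rfl)
    · exact tv_zero_left r
    · exact tv_zero_right v

theorem tv_left_injective {v : V} (hv : v ≠ 0) {r r' : Dual F V} (h : r v = 0) (h' : r' v = 0)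
    (heq : tv v r = tv v r') : r = r' := by
  have h2 : (r + -r') v = 0 := by simp [h, h']
  have h3 : ((-r') : Dual F V) v = 0 := by simp [h']
  have : tv v (r + -r') = 1 := by
    rw [← tv_mul_same_left h h3, ← tv_inv h', heq, mul_inv_cancel]
  rcases (tv_eq_one_iff h2).1 this with h4 | h4
  · exact absurd h4 hv
  · rwa [← sub_eq_add_neg, sub_eq_zero] at h4

/-- Functionals vanishing at `e`. -/
def annE (e : V) : Submodule F (Dual F V) where
  carrier := {r | r e = 0}
  add_mem' := by
    intro a b ha hb
    change a e = 0 at ha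
    change b e = 0 at hb
    change (a + b) e = 0
    simp [ha, hb]
  zero_mem' := by simp
  smul_mem' := by
    intro c a ha
    change a e = 0 at ha
    change (c • a) e = 0
    simp [ha]

@[simp] theorem mem_annE {e : V} {r : Dual F V} : r ∈ annE e ↔ r e = 0 := Iff.rfl

/-- The transvection group `Q_e = {1 + e ⊗ r : r e = 0}` with centre `⟨e⟩`, as a homomorphism
from the additive group of `annE e`. -/
noncomputable def tvHom (e : V) : Multiplicative (annE (F := F) e) →* SpecialLinearGroup F V where
  toFun r := tv e (Multiplicative.toAdd r).1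
  map_one' := by
    change tv e (0 : Dual F V) = 1
    exact tv_zero_right e
  map_mul' := by
    intro a b
    change tv e ((Multiplicative.toAdd a).1 + (Multiplicative.toAdd b).1) = _
    rw [tv_mul_same_left (Multiplicative.toAdd a).2 (Multiplicative.toAdd b).2]

theorem tvHom_apply (e : V) (r : Multiplicative (annE (F := F) e)) :
    tvHom e r = tv e (Multiplicative.toAdd r).1 := rfl

theorem tvHom_injective {e : V} (he : e ≠ 0) : Function.Injective (tvHom (F := F) e) := by
  intro a b hab
  have := tv_left_injective he (Multiplicative.toAdd a).2 (Multiplicative.toAdd b).2 hab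
  exact Multiplicative.toAdd.injective (Subtype.ext this)

/-- The transvection subgroup with centre `⟨e⟩`. -/
def Qgrp (e : V) : Subgroup (SpecialLinearGroup F V) where
  carrier := {g | ∃ r : Dual F V, r e = 0 ∧ g = tv e r}
  mul_mem' := by
    rintro _ _ ⟨r, hr, rfl⟩ ⟨r', hr', rfl⟩
    exact ⟨r + r', by simp [hr, hr'], tv_mul_same_left hr hr'⟩
  one_mem' := ⟨0, by simp, (tv_zero_right e).symm⟩
  inv_mem' := by
    rintro _ ⟨r, hr, rfl⟩
    exact ⟨-r, by simp [hr], tv_inv hr⟩

theorem mem_Qgrp {e : V} {g : SpecialLinearGroup F V} :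
    g ∈ Qgrp e ↔ ∃ r : Dual F V, r e = 0 ∧ g = tv e r := Iff.rfl

/-- `θ_k = 1 + q + ⋯ + q^(k-1)`. -/
def theta (q k : ℕ) : ℕ := ∑ i ∈ Finset.range k, q ^ i

end Cfsg.Agent.Lib.Helper99.MinIdx

namespace Cfsg.Agent.Lib.Helper99.MinIdx

open Module

variable {F : Type*} [Field F] {V : Type*} [AddCommGroup V] [Module F V]

/-- For an action of `SL(V)` on `Ω`: the additive group of those `r` with `r e = 0` such that the
transvection `1 + e ⊗ r` fixes `ω` (the stabiliser of `ω` in `Q_e`, read inside `annE e`). -/
def Sgrp {Ω : Type*} [MulAction (SpecialLinearGroup F V) Ω] (e : V) (ω : Ω) :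
    AddSubgroup (Dual F V) where
  carrier := {r | r e = 0 ∧ tv e r • ω = ω}
  add_mem' := by
    rintro a b ⟨ha, ha'⟩ ⟨hb, hb'⟩
    refine ⟨by simp [ha, hb], ?_⟩
    rw [← tv_mul_same_left ha hb, mul_smul, hb', ha']
  zero_mem' := ⟨by simp, by rw [tv_zero_right, one_smul]⟩
  neg_mem' := by
    rintro a ⟨ha, ha'⟩
    refine ⟨by simp [ha], ?_⟩
    rw [← tv_inv ha, inv_smul_eq_iff, ha']

theorem mem_Sgrp {Ω : Type*} [MulAction (SpecialLinearGroup F V) Ω] {e : V} {ω : Ω}
    {r : Dual F V} : r ∈ Sgrp e ω ↔ r e = 0 ∧ tv e r • ω = ω := Iff.rfl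

theorem annE_eq_dualAnnihilator (e : V) :
    annE (F := F) e = (Submodule.span F {e}).dualAnnihilator := by
  ext r
  rw [mem_annE, Submodule.mem_dualAnnihilator]
  constructor
  · intro h w hw
    obtain ⟨c, rfl⟩ := Submodule.mem_span_singleton.1 hw
    simp [h]
  · intro h
    exact h e (Submodule.mem_span_singleton_self e)

theorem finrank_annE [FiniteDimensional F V] {e : V} (he : e ≠ 0) :
    finrank F (annE (F := F) e) = finrank F V - 1 := by
  rw [annE_eq_dualAnnihilator]
  have := Subspace.finrank_add_finrank_dualAnnihilator_eq (Submodule.span F {e})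
  rw [finrank_span_singleton he] at this
  omega

theorem card_annE [Finite F] [FiniteDimensional F V] {e : V} (he : e ≠ 0) :
    Nat.card (annE (F := F) e) = Nat.card F ^ (finrank F V - 1) := by
  rw [← finrank_annE he]
  exact Module.natCard_eq_pow_finrank (K := F) (V := annE (F := F) e)

end Cfsg.Agent.Lib.Helper99.MinIdx
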