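import Cfsg.Agent.Lib.Helper99.MinIdx.Defs
import Cfsg.Agent.Lib.Helper49.MinIdxLA1
import Cfsg.Agent.Lib.Helper49.MinIdxLA2
import Cfsg.Agent.Lib.Helper49.MinIdxTvConj
import Cfsg.Agent.Lib.Helper54.MinIdxGen
import Cfsg.Agent.Lib.Helper54.MinIdxRho
import Cfsg.Agent.Lib.Helper54.MinIdxSpread
import Cfsg.Agent.Lib.Helper77.MinIdxBurn
import Cfsg.Agent.Lib.Helper77.MinIdxStar
import Cfsg.Agent.Lib.Helper9.MinIdxH1N4Big
import Cfsg.Agent.Lib.Helper9.MinIdxH1N4Odd
import Cfsg.Agent.Lib.Helper9.MinIdxH1N5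
import Cfsg.Agent.Lib.Helper93.MinIdxH1N3
import Cfsg.Agent.Lib.Helper93.MinIdxOrbQ
import Cfsg.Agent.Lib.Helper93.MinIdxReg
import Cfsg.Agent.Lib.Helper87.MinIdxLemB

/-!
# S2140: minimal index of `SL(V)` (assembly of the team modules)

`core`: a proper subgroup of `SpecialLinearGroup F V` (`n = finrank ≥ 3`, `(n,q) ≠ (4,2)`) has index at
least `θ_n = 1 + q + ⋯ + q^(n-1)`.
-/

set_option autoImplicit false
set_option linter.style.haveILetI false

namespace Cfsg.Agent.Lib.Helper99.MinIdx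

open Module MulAction

alias card_eq_add_card := Cfsg.Agent.Lib.Helper77.MinIdx.card_eq_add_card
alias star := Cfsg.Agent.Lib.Helper77.MinIdx.star
alias reg_orbit := Cfsg.Agent.Lib.Helper93.MinIdx.reg_orbit
alias orbit_card_eq := Cfsg.Agent.Lib.Helper93.MinIdx.orbit_card_eq
alias tv_flag_transitive := Cfsg.Agent.Lib.Helper49.MinIdx.tv_flag_transitive
alias closure_tv_eq_top := Cfsg.Agent.Lib.Helper54.MinIdxGen.closure_tv_eq_top
alias la1 := Cfsg.Agent.Lib.Helper49.MinIdx.la1
alias la2 := Cfsg.Agent.Lib.Helper49.MinIdx.la2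
alias spread_false := Cfsg.Agent.Lib.Helper54.MinIdxSpread.spread_false
alias exists_rho := Cfsg.Agent.Lib.Helper54.MinIdxRho.exists_rho
alias h1_ge5 := Cfsg.Agent.Lib.Helper9.MinIdx.h1_ge5
alias h1_four_big := Cfsg.Agent.Lib.Helper9.MinIdx.h1_four_big
alias h1_four_odd := Cfsg.Agent.Lib.Helper9.MinIdx.h1_four_odd
alias h1_three_odd := Cfsg.Agent.Lib.Helper93.MinIdx.h1_three_odd
alias h1_three_even := Cfsg.Agent.Lib.Helper93.MinIdx.h1_three_even
alias lemB := Cfsg.Agent.Lib.Helper87.MinIdxLemB.lemB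


/-! ### arithmetic of theta -/

theorem theta_succ (q k : ℕ) : theta q (k + 1) = theta q k + q ^ k := by
  unfold theta
  rw [Finset.sum_range_succ]

theorem theta_mul (q k : ℕ) (hq : 1 ≤ q) : (q - 1) * theta q k + 1 = q ^ k := by
  induction k with
  | zero => simp [theta]
  | succ k ih =>
    rw [theta_succ, mul_add, pow_succ]
    have : (q - 1) * q ^ k + q ^ k = q ^ k * q := by
      obtain ⟨m, rfl⟩ : ∃ m, q = m + 1 := ⟨q - 1, by omega⟩
      simp only [Nat.add_sub_cancel]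
      ring
    omega

theorem theta_lt_pow (q k : ℕ) (hq : 2 ≤ q) : theta q k < q ^ k := by
  have := theta_mul q k (by omega)
  have h1 : theta q k ≤ (q - 1) * theta q k := Nat.le_mul_of_pos_left _ (by omega)
  omega

theorem theta_pos (q k : ℕ) (hk : 1 ≤ k) : 1 ≤ theta q k := by
  obtain ⟨m, rfl⟩ : ∃ m, k = m + 1 := ⟨k - 1, by omega⟩
  unfold theta
  rw [Finset.sum_range_succ']
  simp

variable {F : Type*} [Field F] {V : Type*} [AddCommGroup V] [Module F V]

/-- fixed point counts of conjugate elements agree -/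
theorem card_fixedBy_conj {G Ω : Type*} [Group G] [MulAction G Ω] (g x : G) :
    Nat.card (fixedBy Ω (g * x * g⁻¹)) = Nat.card (fixedBy Ω x) := by
  refine (Nat.card_congr ?_).symm
  refine ⟨fun ω => ⟨g • ω.1, ?_⟩, fun ω => ⟨g⁻¹ • ω.1, ?_⟩, ?_, ?_⟩
  · have := ω.2
    rw [mem_fixedBy] at this ⊢
    rw [mul_smul, mul_smul, inv_smul_smul, this]
  · have := ω.2
    rw [mem_fixedBy] at this ⊢
    calc x • g⁻¹ • ω.1 = g⁻¹ • ((g * x * g⁻¹) • ω.1) := by
          simp only [← mul_smul]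
          congr 1
          group
      _ = g⁻¹ • ω.1 := by rw [this]
  · intro ω; simp
  · intro ω; simp

/-- existence of a nonzero functional vanishing at `e`, when `n ≥ 2`. -/
theorem exists_annE_ne_zero [FiniteDimensional F V] (hn : 2 ≤ finrank F V) {e : V} (he : e ≠ 0) :
    ∃ r : Dual F V, r e = 0 ∧ r ≠ 0 := by
  have h1 : 0 < finrank F (annE (F := F) e) := by rw [finrank_annE he]; omega
  have h2 : Nontrivial (annE (F := F) e) := (Module.finrank_pos_iff (R := F)).1 h1
  obtain ⟨r, hr⟩ := exists_ne (0 : annE (F := F) e)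
  exact ⟨r.1, r.2, fun h => hr (Subtype.ext h)⟩

theorem exists_ne_zero_vec [FiniteDimensional F V] (hn : 1 ≤ finrank F V) : ∃ e : V, e ≠ 0 := by
  have h1 : 0 < finrank F V := by omega
  have h2 : Nontrivial V := (Module.finrank_pos_iff (R := F)).1 h1
  exact exists_ne (0 : V)

/-- [FIXCONST] all nonidentity transvections have the same number of fixed points. -/
theorem fix_const [FiniteDimensional F V] (hn : 3 ≤ finrank F V) {Ω : Type*}
    [MulAction (SpecialLinearGroup F V) Ω] :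
    ∃ φ : ℕ, ∀ (e : V) (r : Dual F V), e ≠ 0 → r ≠ 0 → r e = 0 →
      Nat.card (fixedBy Ω (tv e r)) = φ := by
  obtain ⟨e₀, he₀⟩ := exists_ne_zero_vec (F := F) (V := V) (by omega)
  obtain ⟨r₀, hr₀e, hr₀⟩ := exists_annE_ne_zero (F := F) (by omega) he₀
  refine ⟨Nat.card (fixedBy Ω (tv e₀ r₀)), ?_⟩
  intro e r he hr hre
  obtain ⟨g, hg, hgr⟩ := tv_flag_transitive hn he₀ he hr₀ hr hr₀e hre
  have := tv_conj g hr₀e hgr
  rw [hg] at this
  rw [← this, card_fixedBy_conj]

/-- The action of `Q_e ≅ annE e` on `Ω` (not an instance). -/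
@[reducible] noncomputable def qAct (Ω : Type*) [MulAction (SpecialLinearGroup F V) Ω] (e : V) :
    MulAction (Multiplicative (annE (F := F) e)) Ω :=
  MulAction.compHom Ω (tvHom (F := F) e)

section bridge

variable {Ω : Type*} [MulAction (SpecialLinearGroup F V) Ω] (e : V)

theorem qAct_smul (x : Multiplicative (annE (F := F) e)) (ω : Ω) :
    (letI := qAct (F := F) Ω e; x • ω) = tv e (Multiplicative.toAdd x).1 • ω := rfl

theorem qAct_mem_stabilizer (x : Multiplicative (annE (F := F) e)) (ω : Ω) :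
    (letI := qAct (F := F) Ω e; x ∈ stabilizer (Multiplicative (annE (F := F) e)) ω) ↔
      (Multiplicative.toAdd x).1 ∈ Sgrp (F := F) e ω := by
  letI := qAct (F := F) Ω e
  rw [mem_stabilizer_iff, mem_Sgrp]
  constructor
  · intro h
    exact ⟨(Multiplicative.toAdd x).2, h⟩
  · intro h
    exact h.2

theorem card_Q [Finite F] [FiniteDimensional F V] {e : V} (he : e ≠ 0) :
    Nat.card (Multiplicative (annE (F := F) e)) = Nat.card F ^ (finrank F V - 1) := by
  rw [← card_annE he]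
  exact Nat.card_congr Multiplicative.toAdd

theorem card_stabilizer_Q (ω : Ω) :
    (letI := qAct (F := F) Ω e; Nat.card (stabilizer (Multiplicative (annE (F := F) e)) ω)) =
      Nat.card (Sgrp (F := F) e ω) := by
  letI := qAct (F := F) Ω e
  refine Nat.card_congr ⟨fun x => ⟨(Multiplicative.toAdd x.1).1, (qAct_mem_stabilizer e x.1 ω).1 x.2⟩,
    fun r => ⟨Multiplicative.ofAdd ⟨r.1, r.2.1⟩, (qAct_mem_stabilizer e _ ω).2 r.2⟩, ?_, ?_⟩
  · intro x; rfl
  · intro r; rfl

theorem card_orbit_Q [Finite F] [FiniteDimensional F V] {e : V} (he : e ≠ 0) (ω : Ω) :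
    (letI := qAct (F := F) Ω e; Nat.card (orbit (Multiplicative (annE (F := F) e)) ω)) *
      Nat.card (Sgrp (F := F) e ω) = Nat.card F ^ (finrank F V - 1) := by
  have h1 := @index_stabilizer (Multiplicative (annE (F := F) e)) Ω _ (qAct (F := F) Ω e) ω
  rw [← card_stabilizer_Q, ← card_Q he, Nat.card_coe_set_eq, ← h1, mul_comm]
  exact Subgroup.card_mul_index _

end bridge

section main

variable {Ω : Type*} [MulAction (SpecialLinearGroup F V) Ω]

/-- the fixed-point hypothesis, transported to `Q_e`. -/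
theorem hfix_Q {e : V} (he : e ≠ 0) (φ : ℕ)
    (hfix : ∀ (e : V) (r : Dual F V), e ≠ 0 → r ≠ 0 → r e = 0 →
      Nat.card (fixedBy Ω (tv e r)) = φ) :
    letI := qAct (F := F) Ω e
    ∀ x : Multiplicative (annE (F := F) e), x ≠ 1 → Nat.card (fixedBy Ω x) = φ := by
  intro x hx
  have hr : (Multiplicative.toAdd x).1 ≠ 0 := by
    intro h
    apply hx
    apply Multiplicative.toAdd.injective
    exact Subtype.ext h
  exact hfix e (Multiplicative.toAdd x).1 he hr (Multiplicative.toAdd x).2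

theorem card_eq_phi_add [Finite F] [FiniteDimensional F V] (hn : 3 ≤ finrank F V) [Finite Ω]
    (φ : ℕ) (hfix : ∀ (e : V) (r : Dual F V), e ≠ 0 → r ≠ 0 → r e = 0 →
      Nat.card (fixedBy Ω (tv e r)) = φ) (hφ : φ < Nat.card Ω)
    (hlt : Nat.card Ω < theta (Nat.card F) (finrank F V)) :
    Nat.card Ω = φ + Nat.card F ^ (finrank F V - 1) := by
  obtain ⟨e, he⟩ := exists_ne_zero_vec (F := F) (V := V) (by omega)
  obtain ⟨r, hre, hr⟩ := exists_annE_ne_zero (F := F) (by omega) he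
  have hq : 2 ≤ Nat.card F := Finite.one_lt_card
  haveI : Finite (Dual F V) := Module.finite_of_finite F
  letI := qAct (F := F) Ω e
  rw [← card_Q he]
  refine card_eq_add_card φ (hfix_Q he φ hfix) ?_ ?_
  · rw [card_Q he]
    obtain ⟨m, hm⟩ : ∃ m, finrank F V = m + 1 := ⟨finrank F V - 1, by omega⟩
    rw [hm, theta_succ] at hlt
    rw [hm, Nat.add_sub_cancel]
    have := theta_lt_pow (Nat.card F) m hq
    omega
  · by_contra hcon
    push Not at hcon
    have h1 : fixedBy Ω (tv e r) = Set.univ := by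
      ext ω
      simp only [mem_fixedBy, Set.mem_univ, iff_true]
      exact hcon (Multiplicative.ofAdd ⟨r, hre⟩) ω
    have h2 := hfix e r he hr hre
    rw [h1, Nat.card_coe_set_eq, Set.ncard_univ] at h2
    omega

theorem exists_mul_of_sup_eq_top {Q : Type*} [CommGroup Q] {S T : Subgroup Q} (h : S ⊔ T = ⊤)
    (x : Q) : ∃ y ∈ S, ∃ z ∈ T, y * z = x := by
  have : x ∈ S ⊔ T := by rw [h]; trivial
  exact Subgroup.mem_sup.1 this

/-- conjugating `Q_e` by the transvection `tv a μ` fixing `e`. -/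
theorem smul_tv_smul_iff {e a : V} {μ r : Dual F V} (hμa : μ a = 0) (hμe : μ e = 0) (hre : r e = 0)
    (ω : Ω) : tv e r • (tv a μ • ω) = tv a μ • ω ↔ tv e (r + r a • μ) • ω = ω := by
  have hnμ : (-μ) a = 0 := by simp [hμa]
  have h1 : (tv a μ)⁻¹ * tv e r * (tv a μ)⁻¹⁻¹ = tv e (r + r a • μ) := by
    have := tv_conj (tv a μ)⁻¹ hre (r' := r + r a • μ) (by
      intro x
      rw [tv_inv hμa, tv_apply hnμ]
      simp only [LinearMap.neg_apply, neg_smul, map_add, map_neg, map_smul, smul_eq_mul,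
        LinearMap.add_apply, LinearMap.smul_apply, hμa, mul_zero]
      ring)
    rw [this]
    congr 1
    rw [tv_inv hμa, tv_apply hnμ]
    simp [hμe]
  rw [inv_inv] at h1
  rw [← h1, mul_smul, mul_smul, inv_smul_eq_iff]

theorem dich [Finite F] [FiniteDimensional F V] [Finite Ω] (φ : ℕ)
    (hfix : ∀ (e : V) (r : Dual F V), e ≠ 0 → r ≠ 0 → r e = 0 →
      Nat.card (fixedBy Ω (tv e r)) = φ)
    (hN : Nat.card Ω = φ + Nat.card F ^ (finrank F V - 1)) {e : V} (he : e ≠ 0) (ω : Ω)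
    (a : V) (μ : Dual F V) (hμa : μ a = 0) (hμe : μ e = 0) :
    (∀ r ∈ Sgrp (F := F) e ω, r + r a • μ ∈ Sgrp (F := F) e ω) ∨
    (∀ w : Dual F V, w e = 0 → ∃ s ∈ Sgrp (F := F) e ω, ∃ s' ∈ Sgrp (F := F) e ω,
      w = s + (s' - s' a • μ)) := by
  haveI : Finite (Dual F V) := Module.finite_of_finite F
  letI := qAct (F := F) Ω e
  by_cases hmem : tv a μ • ω ∈ orbit (Multiplicative (annE (F := F) e)) ω
  · left
    obtain ⟨x, hx⟩ := hmem
    change tv e (Multiplicative.toAdd x).1 • ω = tv a μ • ω at hx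
    have hs := (Multiplicative.toAdd x).2
    intro r hr
    obtain ⟨hre, hrω⟩ := hr
    refine ⟨by simp [hre, hμe], ?_⟩
    rw [← smul_tv_smul_iff hμa hμe hre, ← hx, ← mul_smul, tv_mul_same_left hre hs, add_comm,
      ← tv_mul_same_left hs hre, mul_smul, hrω]
  · right
    have hst := star (Q := Multiplicative (annE (F := F) e)) (Ω := Ω) φ (hfix_Q he φ hfix)
      (by rw [hN, card_Q he]) ω (tv a μ • ω) hmem
    intro w hw0
    have hw : w ∈ annE (F := F) e := mem_annE.2 hw0
    obtain ⟨y, hy, z, hz, hyz⟩ := exists_mul_of_sup_eq_top hst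
      (Multiplicative.ofAdd (⟨w, hw⟩ : annE (F := F) e))
    rw [qAct_mem_stabilizer] at hy hz
    obtain ⟨hze, hzω⟩ := hz
    rw [smul_tv_smul_iff hμa hμe hze] at hzω
    refine ⟨_, hy, _, ⟨by simp [hze, hμe], hzω⟩, ?_⟩
    have h3 : w = (Multiplicative.toAdd y).1 + (Multiplicative.toAdd z).1 := by
      have := congrArg (fun t => (Multiplicative.toAdd t).1) hyz
      exact this.symm
    rw [h3]
    simp only [LinearMap.add_apply, LinearMap.smul_apply, hμa, smul_eq_mul, mul_zero, add_zero]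
    abel

theorem caseII [Finite F] [FiniteDimensional F V] (hn : 3 ≤ finrank F V) [Finite Ω] (φ : ℕ)
    (hfix : ∀ (e : V) (r : Dual F V), e ≠ 0 → r ≠ 0 → r e = 0 →
      Nat.card (fixedBy Ω (tv e r)) = φ)
    (hN : Nat.card Ω = φ + Nat.card F ^ (finrank F V - 1))
    (hlt : Nat.card Ω < theta (Nat.card F) (finrank F V))
    (hII : ∀ e : V, e ≠ 0 → ∀ ω : Ω, ∃ r ∈ Sgrp (F := F) e ω, r ≠ 0) : False := by
  haveI : Finite (Dual F V) := Module.finite_of_finite F
  have hq : 2 ≤ Nat.card F := Finite.one_lt_card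
  obtain ⟨m, hm⟩ : ∃ m, finrank F V = m + 1 := ⟨finrank F V - 1, by omega⟩
  have hpos : 0 < Nat.card Ω := by
    rw [hN]
    have : 0 < Nat.card F ^ (finrank F V - 1) := Nat.pow_pos (by omega)
    omega
  haveI : Nonempty Ω := (Nat.card_pos_iff.1 hpos).1
  obtain ⟨ω⟩ := ‹Nonempty Ω›
  refine spread_false hn ω ?_
  intro e he
  letI := qAct (F := F) Ω e
  have hsz : ∀ ω' : Ω, (∀ x : Multiplicative (annE (F := F) e), x • ω' = ω') ∨
      Nat.card (orbit (Multiplicative (annE (F := F) e)) ω') ≤ Nat.card F := by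
    intro ω'
    by_cases hall : ∀ r : Dual F V, r e = 0 → r ∈ Sgrp (F := F) e ω'
    · left
      intro x
      exact (hall _ (Multiplicative.toAdd x).2).2
    · right
      push Not at hall
      have h1 := la1 hn he (Sgrp (F := F) e ω') (fun r hr => hr.1) (hII e he ω') hall
        (dich φ hfix hN he ω')
      have h2 := card_orbit_Q (F := F) he ω'
      rw [card_annE he] at h1
      have hSpos : 0 < Nat.card (Sgrp (F := F) e ω') := Nat.card_pos
      rw [← h2] at h1
      exact Nat.le_of_mul_le_mul_right h1 hSpos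
  have horb := orbit_card_eq (Q := Multiplicative (annE (F := F) e)) (Ω := Ω) φ (Nat.card F)
    (theta (Nat.card F) m) (hfix_Q he φ hfix) (by rw [hN, card_Q he]) hq
    (by rw [card_Q he, hm, Nat.add_sub_cancel, theta_mul _ _ (by omega)])
    (by rw [card_Q he, hm, Nat.add_sub_cancel, add_comm]; rw [hm, theta_succ] at hlt; exact hlt)
    hsz
  have h3 := card_orbit_Q (F := F) he ω
  rw [horb ω] at h3
  obtain ⟨y, hy, hy2⟩ := la2 hn he (Sgrp (F := F) e ω) (fun r hr => hr.1)
    (by rw [card_annE he, ← h3]) (dich φ hfix hN he ω)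
  refine ⟨y, hy, ?_⟩
  intro r hr
  rw [← hy2 r hr, mem_Sgrp]
  exact ⟨fun h => ⟨hr, h⟩, fun h => h.2⟩

theorem exists_ne_zero_ne_one (hF : 3 ≤ Nat.card F) : ∃ l : F, l ≠ 0 ∧ l ≠ 1 := by
  by_contra hcon
  push Not at hcon
  classical
  have hinj : Function.Injective (fun l : F => decide (l = 1)) := by
    intro a b hab
    simp only [decide_eq_decide] at hab
    by_cases ha : a = 0
    · by_cases hb : b = 0
      · rw [ha, hb]
      · have hb1 := hcon b hb
        have ha1 := hab.2 hb1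
        rw [ha1, hb1]
    · have ha1 := hcon a ha
      have hb1 := hab.1 ha1
      rw [ha1, hb1]
  have := Nat.card_le_card_of_injective _ hinj
  rw [Nat.card_eq_fintype_card (α := Bool), Fintype.card_bool] at this
  omega

theorem caseI_transfer [FiniteDimensional F V] (hn : 3 ≤ finrank F V)
    (hI : ∃ e : V, e ≠ 0 ∧ ∃ ω : Ω, ∀ r ∈ Sgrp (F := F) e ω, r = 0) :
    ∀ e' : V, e' ≠ 0 → ∃ ω' : Ω, ∀ r ∈ Sgrp (F := F) e' ω', r = 0 := by
  obtain ⟨e, he, ω₀, h0⟩ := hI
  intro e' he'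
  obtain ⟨r₁, hr₁e, hr₁⟩ := exists_annE_ne_zero (F := F) (by omega) he
  obtain ⟨r₂, hr₂e, hr₂⟩ := exists_annE_ne_zero (F := F) (by omega) he'
  obtain ⟨g, hg, -⟩ := tv_flag_transitive hn he he' hr₁ hr₂ hr₁e hr₂e
  refine ⟨g • ω₀, ?_⟩
  intro r hr
  obtain ⟨hre, hrω⟩ := hr
  set r' : Dual F V := r ∘ₗ g.1.toLinearMap with hr'
  have hr'x : ∀ x, r (g x) = r' x := fun x => rfl
  have hr'e : r' e = 0 := by rw [← hr'x, hg, hre]
  have hc := tv_conj g hr'e hr'x
  rw [hg] at hc
  have hmem : r' ∈ Sgrp (F := F) e ω₀ := by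
    refine ⟨hr'e, ?_⟩
    rw [← hc, mul_smul, mul_smul, smul_eq_iff_eq_inv_smul] at hrω
    rw [inv_smul_smul] at hrω
    rw [← smul_left_cancel_iff g, hrω]
  have hz := h0 r' hmem
  ext x
  have hx : x = g (g⁻¹ x) := by
    change x = (g * g⁻¹) x
    rw [mul_inv_cancel]; rfl
  rw [hx, hr'x, hz]
  rfl

theorem caseI_hCI [Finite F] [FiniteDimensional F V] [Finite Ω] (φ : ℕ)
    (hfix : ∀ (e : V) (r : Dual F V), e ≠ 0 → r ≠ 0 → r e = 0 →
      Nat.card (fixedBy Ω (tv e r)) = φ)
    (hN : Nat.card Ω = φ + Nat.card F ^ (finrank F V - 1))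
    (hI : ∀ e' : V, e' ≠ 0 → ∃ ω' : Ω, ∀ r ∈ Sgrp (F := F) e' ω', r = 0) :
    ∀ (e : V), e ≠ 0 → ∀ ω : Ω, (∀ r : Dual F V, r e = 0 → tv e r • ω = ω) ∨
      (∀ r : Dual F V, r e = 0 → r ≠ 0 → tv e r • ω ≠ ω) := by
  haveI : Finite (Dual F V) := Module.finite_of_finite F
  intro e he ω
  obtain ⟨ω₀, h0⟩ := hI e he
  letI := qAct (F := F) Ω e
  have hstab : stabilizer (Multiplicative (annE (F := F) e)) ω₀ = ⊥ := by
    rw [eq_bot_iff]
    intro x hx
    rw [qAct_mem_stabilizer] at hx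
    have := h0 _ hx
    rw [Subgroup.mem_bot]
    apply Multiplicative.toAdd.injective
    exact Subtype.ext this
  rcases reg_orbit (Q := Multiplicative (annE (F := F) e)) (Ω := Ω) φ (hfix_Q he φ hfix)
    (by rw [hN, card_Q he]) ω₀ hstab ω with h | h
  · right
    obtain ⟨x, hx⟩ := h
    change tv e (Multiplicative.toAdd x).1 • ω₀ = ω at hx
    have hs := (Multiplicative.toAdd x).2
    intro r hre hr hrω
    apply hr
    apply h0 r
    refine ⟨hre, ?_⟩
    rw [← hx, ← mul_smul, tv_mul_same_left hre hs, add_comm, ← tv_mul_same_left hs hre,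
      mul_smul, smul_left_cancel_iff] at hrω
    exact hrω
  · left
    intro r hre
    exact h (Multiplicative.ofAdd ⟨r, hre⟩)

theorem caseI [Finite F] [FiniteDimensional F V] (hn : 3 ≤ finrank F V)
    (hexc : ¬ (finrank F V = 4 ∧ Nat.card F = 2)) [Finite Ω]
    [IsPretransitive (SpecialLinearGroup F V) Ω] (φ : ℕ)
    (hfix : ∀ (e : V) (r : Dual F V), e ≠ 0 → r ≠ 0 → r e = 0 →
      Nat.card (fixedBy Ω (tv e r)) = φ)
    (hN : Nat.card Ω = φ + Nat.card F ^ (finrank F V - 1))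
    (hlt : Nat.card Ω < theta (Nat.card F) (finrank F V))
    (hI : ∃ e : V, e ≠ 0 ∧ ∃ ω : Ω, ∀ r ∈ Sgrp (F := F) e ω, r = 0) : False := by
  have hq : 2 ≤ Nat.card F := Finite.one_lt_card
  obtain ⟨m, hm⟩ : ∃ m, finrank F V = m + 1 := ⟨finrank F V - 1, by omega⟩
  have hI' := caseI_transfer hn hI
  have hCI := caseI_hCI φ hfix hN hI'
  rcases Nat.eq_zero_or_pos φ with hφ0 | hφpos
  · -- φ = 0
    subst hφ0
    rw [zero_add] at hN
    have hfree : ∀ (e : V) (r : Dual F V), e ≠ 0 → r ≠ 0 → r e = 0 → ∀ ω : Ω,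
        tv e r • ω ≠ ω := by
      intro e r he hr hre ω hω
      have h1 := hfix e r he hr hre
      have h2 : (⟨ω, hω⟩ : fixedBy Ω (tv e r)) ∈ (Set.univ : Set (fixedBy Ω (tv e r))) :=
        Set.mem_univ _
      have h3 : Nat.card (fixedBy Ω (tv e r)) ≠ 0 := by
        haveI : Nonempty (fixedBy Ω (tv e r)) := ⟨⟨ω, hω⟩⟩
        exact Nat.card_pos.ne'
      exact h3 h1
    obtain ⟨e, he⟩ := exists_ne_zero_vec (F := F) (V := V) (by omega)
    have hpos : 0 < Nat.card Ω := by
      rw [hN]; exact Nat.pow_pos (by omega)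
    haveI : Nonempty Ω := (Nat.card_pos_iff.1 hpos).1
    obtain ⟨ω₀⟩ := ‹Nonempty Ω›
    obtain ⟨ρ, hρ1, hρ2⟩ := exists_rho he hN (fun r hre hr ω => hfree e r he hr hre ω) ω₀
    have hρe : ∀ g : SpecialLinearGroup F V, g e = e → ρ g e = 0 := fun g hg => (hρ1 g hg).1
    have hH1 : ∃ (a : V) (ν : Dual F V) (c : F), a ∉ Submodule.span F {e} ∧ ν ≠ 0 ∧ ν e = 0 ∧
        ν a = 0 ∧ ρ (tv a ν) = c • ν := by
      by_cases h5 : 5 ≤ finrank F V
      · exact h1_ge5 h5 he ρ hρe hρ2
      · by_cases h2 : (2 : F) = 0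
        · by_cases h3 : finrank F V = 3
          · exact h1_three_even h3 h2 he ρ hρe hρ2
          · have h4 : finrank F V = 4 := by omega
            have hq3 : 3 ≤ Nat.card F := by
              have : Nat.card F ≠ 2 := fun h => hexc ⟨h4, h⟩
              omega
            obtain ⟨l, hl0, hl1⟩ := exists_ne_zero_ne_one hq3
            refine h1_four_big h4 ⟨l, hl0, ?_⟩ he ρ hρe hρ2
            intro hl2
            apply hl1
            have h6 : (l - 1) ^ 2 = 0 := by
              have : (l - 1) ^ 2 = l ^ 2 - 2 * l + 1 := by ring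
              rw [this, hl2, h2]
              have h7 : (1 : F) + 1 = 0 := by rw [one_add_one_eq_two, h2]
              linear_combination h7
            have h8 := pow_eq_zero_iff (two_ne_zero) |>.1 h6
            exact sub_eq_zero.1 h8
        · by_cases h3 : finrank F V = 3
          · exact h1_three_odd h3 h2 he ρ hρe hρ2
          · have h4 : finrank F V = 4 := by omega
            exact h1_four_odd h4 h2 he ρ hρe hρ2
    obtain ⟨a, ν, c, ha, hν, hνe, hνa, hρν⟩ := hH1
    have hge : tv a ν e = e := by rw [tv_apply hνa, hνe, zero_smul, add_zero]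
    have hk := (hρ1 (tv a ν) hge).2
    rw [hρν, ← tv_smul_left, tv_mul_same_right (by simp [hνe]) hνa] at hk
    refine hfree (c • e + a) ν ?_ hν (by simp [hνe, hνa]) ω₀ hk
    intro h0
    apply ha
    have : a = (-c) • e := by
      rw [neg_smul]
      exact eq_neg_of_add_eq_zero_right h0
    rw [this]
    exact Submodule.smul_mem _ _ (Submodule.mem_span_singleton_self e)
  · -- φ ≥ 1
    refine lemB hn φ hφpos hN ?_ hfix hCI
    rw [hm, theta_succ] at hlt
    rw [hm, Nat.add_sub_cancel] at hN ⊢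
    omega

theorem core_action [Finite F] [FiniteDimensional F V] (hn : 3 ≤ finrank F V)
    (hexc : ¬ (finrank F V = 4 ∧ Nat.card F = 2)) [Finite Ω]
    [IsPretransitive (SpecialLinearGroup F V) Ω] (h2 : 2 ≤ Nat.card Ω) :
    theta (Nat.card F) (finrank F V) ≤ Nat.card Ω := by
  by_contra hlt
  push Not at hlt
  obtain ⟨φ, hfix⟩ := fix_const (F := F) (V := V) hn (Ω := Ω)
  -- some transvection moves some point
  have hmove : ∃ (e : V) (r : Dual F V) (ω : Ω), r e = 0 ∧ tv e r • ω ≠ ω := by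
    by_contra hcon
    push Not at hcon
    let K : Subgroup (SpecialLinearGroup F V) :=
      { carrier := {g | ∀ ω : Ω, g • ω = ω}
        mul_mem' := by
          intro a b ha hb ω
          rw [mul_smul, hb, ha]
        one_mem' := fun ω => one_smul _ ω
        inv_mem' := by
          intro a ha ω
          rw [inv_smul_eq_iff, ha] }
    have hK : (⊤ : Subgroup (SpecialLinearGroup F V)) ≤ K := by
      rw [← closure_tv_eq_top, Subgroup.closure_le]
      rintro g ⟨v, r, hrv, rfl⟩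
      exact fun ω => hcon v r ω hrv
    have hcard : Nat.card Ω ≤ 1 := by
      rw [Finite.card_le_one_iff_subsingleton]
      constructor
      intro ω₁ ω₂
      obtain ⟨g, hg⟩ := exists_smul_eq (SpecialLinearGroup F V) ω₁ ω₂
      rw [← hg]
      exact (hK (Subgroup.mem_top g) ω₁).symm
    omega
  obtain ⟨e₁, r₁, ω₁, hr₁e, hω₁⟩ := hmove
  have he₁ : e₁ ≠ 0 := by
    rintro rfl
    rw [tv_zero_left, one_smul] at hω₁
    exact hω₁ rfl
  have hr₁ : r₁ ≠ 0 := by
    rintro rfl
    rw [tv_zero_right, one_smul] at hω₁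
    exact hω₁ rfl
  have hφ : φ < Nat.card Ω := by
    rw [← hfix e₁ r₁ he₁ hr₁ hr₁e, Nat.card_coe_set_eq, ← Set.ncard_univ]
    apply Set.ncard_lt_ncard _ Set.finite_univ
    rw [Set.ssubset_univ_iff]
    intro h
    have : ω₁ ∈ fixedBy Ω (tv e₁ r₁) := by rw [h]; trivial
    exact hω₁ this
  have hN := card_eq_phi_add hn φ hfix hφ hlt
  by_cases hI : ∃ e : V, e ≠ 0 ∧ ∃ ω : Ω, ∀ r ∈ Sgrp (F := F) e ω, r = 0
  · exact caseI hn hexc φ hfix hN hlt hI
  · push Not at hI
    exact caseII hn φ hfix hN hlt (fun e he ω => hI e he ω)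

end main

/-- [MAIN] -/
theorem core [Finite F] [FiniteDimensional F V] (hn : 3 ≤ finrank F V)
    (hexc : ¬ (finrank F V = 4 ∧ Nat.card F = 2))
    (H : Subgroup (SpecialLinearGroup F V)) (hH : H ≠ ⊤) :
    theta (Nat.card F) (finrank F V) ≤ H.index := by
  haveI : Finite V := Module.finite_of_finite F
  haveI : Finite (V ≃ₗ[F] V) := DFunLike.finite _
  haveI : Finite (SpecialLinearGroup F V) := Subtype.finite
  have h1 : H.index ≠ 1 := fun h => hH (Subgroup.index_eq_one.1 h)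
  have h0 : H.index ≠ 0 := Subgroup.index_ne_zero_of_finite
  exact core_action (Ω := SpecialLinearGroup F V ⧸ H) hn hexc (by
    change 2 ≤ H.index
    omega)

end Cfsg.Agent.Lib.Helper99.MinIdx
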